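import Cfsg.Agent.H414.PslData

/-!
# Certificate for `PSL(12, 13)` (helper414; generated)
-/

set_option autoImplicit false

namespace Cfsg.Agent.H414.Psl

open Cfsg.Agent.H414.PslData Cfsg.Agent.H414.RelB

def L12_13 : LD where
  n := 12
  q := 13
  p := 13
  a := 1
  fac := [
    (2, 34), (3, 17), (5, 3), (7, 6), (11, 1), (17, 3), (23, 1), (61, 4), (157, 2), (419, 1), (859, 1),
    (2411, 1), (14281, 1), (18041, 1), (28393, 1), (30941, 2), (1609669, 1), (5229043, 1)]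
  tops := [
    (7, 5229043), (8, 14281), (9, 1609669), (10, 2411), (11, 18041), (12, 28393)]
  A := [
    (61, 31), (157, 79), (419, 19), (859, 43), (2411, 67), (14281, 37), (18041, 31), (28393, 14197),
    (30941, 191), (1609669, 733), (5229043, 1307261)]
  B := [
    (2, ⟨14281, 29, 2380, 28, [(2, 2, 2), (7, 1, 1)], 2, 0⟩, ⟨18041, 89, 451, 11, [(11, 1, 1)], 0, 0⟩),
    (3, ⟨1609669, 19, 804834, 18, [(2, 1, 1), (3, 2, 2)], 1, 2⟩, ⟨14281, 31, 3570, 30, [(2, 1, 1), (3, 1, 1), (5, 1, 1)], 1, 1⟩),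
    (5, ⟨1609669, 19, 402417, 9, [(3, 2, 2)], 0, 2⟩, ⟨5229043, 29, 1743014, 14, [(2, 1, 1), (7, 1, 1)], 1, 0⟩),
    (7, ⟨14281, 43, 3570, 6, [(2, 1, 1), (3, 1, 1)], 1, 1⟩, ⟨5229043, 53, 1743014, 26, [(2, 1, 1), (13, 1, 1)], 1, 0⟩),
    (11, ⟨5229043, 19, 28731, 3, [(3, 1, 1)], 0, 1⟩, ⟨14281, 19, 1785, 3, [(3, 1, 1)], 0, 1⟩),
    (17, ⟨1609669, 37, 1609668, 36, [(2, 2, 2), (3, 2, 2)], 2, 2⟩, ⟨14281, 71, 1190, 10, [(2, 1, 1), (5, 1, 1)], 1, 0⟩),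
    (23, ⟨18041, 53, 9020, 4, [(2, 2, 2)], 2, 0⟩, ⟨1609669, 73, 1609668, 36, [(2, 2, 2), (3, 2, 2)], 2, 2⟩)]
  skip := []
  ch := [
    (14197, 11, [(2, 2), (3, 1), (7, 1), (13, 2)]), (14281, 19, [(2, 3), (3, 1), (5, 1), (7, 1), (17, 1)]),
    (18041, 3, [(2, 3), (5, 1), (11, 1), (41, 1)]), (28393, 15, [(2, 3), (3, 1), (7, 1), (13, 2)]),
    (30941, 2, [(2, 2), (5, 1), (7, 1), (13, 1), (17, 1)]),
    (1307261, 2, [(2, 2), (5, 1), (163, 1), (401, 1)]), (1609669, 6, [(2, 2), (3, 2), (61, 1), (733, 1)]),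
    (5229043, 26, [(2, 1), (3, 1), (7, 1), (13, 1), (61, 1), (157, 1)])]

set_option maxRecDepth 100000 in
theorem L12_13_ok : ldB L12_13 = true := by decide +kernel

end Cfsg.Agent.H414.Psl
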