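import Cfsg.Agent.H414.PslData

/-!
# Certificate for `PSL(12, 3)` (helper414; generated)
-/

set_option autoImplicit false

namespace Cfsg.Agent.H414.Psl

open Cfsg.Agent.H414.PslData Cfsg.Agent.H414.RelB

def L12_3 : LD where
  n := 12
  q := 3
  p := 3
  a := 1
  fac := [
    (2, 28), (5, 3), (7, 2), (11, 4), (13, 4), (23, 1), (41, 1), (61, 1), (73, 1), (757, 1), (1093, 1),
    (3851, 1)]
  tops := [
    (7, 1093), (8, 41), (9, 757), (10, 61), (11, 3851), (12, 73)]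
  A := [
    (61, 31), (73, 37), (757, 379), (1093, 547), (3851, 107)]
  B := [
    (2, ⟨1093, 29, 364, 28, [(2, 2, 2), (7, 1, 1)], 2, 0⟩, ⟨3851, 43, 3850, 14, [(2, 1, 1), (7, 1, 1)], 1, 0⟩),
    (5, ⟨3851, 71, 1925, 5, [(5, 1, 2)], 0, 0⟩, ⟨1093, 157, 1092, 156, [(2, 2, 2), (3, 1, 1), (13, 1, 1)], 2, 1⟩),
    (7, ⟨1093, 19, 273, 3, [(3, 1, 1)], 0, 1⟩, ⟨3851, 71, 350, 70, [(2, 1, 1), (5, 1, 2), (7, 1, 1)], 1, 0⟩),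
    (11, ⟨3851, 71, 3850, 70, [(2, 1, 1), (5, 1, 2), (7, 1, 1)], 1, 0⟩, ⟨41, 7321, 40, 8, [(2, 3, 3)], 3, 0⟩),
    (13, ⟨1093, 79, 39, 39, [(3, 1, 1), (13, 1, 1)], 0, 1⟩, ⟨3851, 419, 275, 11, [(11, 1, 1)], 0, 0⟩),
    (23, ⟨1093, 29, 91, 7, [(7, 1, 1)], 0, 0⟩, ⟨3851, 29, 1925, 7, [(7, 1, 1)], 0, 0⟩),
    (41, ⟨73, 19, 18, 18, [(2, 1, 1), (3, 2, 2)], 1, 2⟩, ⟨3851, 71, 154, 14, [(2, 1, 1), (7, 1, 1)], 1, 0⟩)]
  skip := []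
  ch := [
    (7321, 7, [(2, 3), (3, 1), (5, 1), (61, 1)])]

set_option maxRecDepth 100000 in
theorem L12_3_ok : ldB L12_3 = true := by decide +kernel

end Cfsg.Agent.H414.Psl
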