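import Cfsg.Agent.H414.PslData

/-!
# Certificate for `PSL(18, 19)` (helper414; generated)
-/

set_option autoImplicit false

namespace Cfsg.Agent.H414.Psl

open Cfsg.Agent.H414.PslData Cfsg.Agent.H414.RelB

def L18_19 : LD where
  n := 18
  q := 19
  p := 19
  a := 1
  fac := [
    (2, 43), (3, 44), (5, 10), (7, 9), (11, 1), (13, 2), (17, 2), (31, 1), (127, 6), (151, 3), (181, 4),
    (197, 1), (199, 1), (211, 1), (523, 2), (599, 1), (701, 2), (769, 1), (911, 3), (2251, 1), (3833, 2),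
    (15073, 1), (29251, 1), (29989, 2), (70841, 2), (104281, 1), (226871, 1), (236377, 1), (563377, 1),
    (2460181, 1), (3044803, 1), (62060021, 1), (133338869, 1), (99995282631947, 1)]
  tops := [
    (10, 2251), (11, 104281), (12, 769), (13, 599), (14, 226871), (15, 2460181), (16, 563377), (17, 3044803),
    (18, 236377)]
  A := [
    (211, 53), (523, 29), (599, 23), (2251, 563), (3833, 71), (15073, 157), (29251, 71), (29989, 2999),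
    (70841, 23), (104281, 23), (226871, 23), (236377, 67), (563377, 97), (2460181, 59), (3044803, 37),
    (62060021, 47), (133338869, 29), (99995282631947, 139)]
  B := [
    (2, ⟨236377, 37, 118188, 36, [(2, 2, 2), (3, 2, 2)], 2, 2⟩, ⟨599, 47, 299, 23, [(23, 1, 1)], 0, 0⟩),
    (3, ⟨599, 47, 299, 23, [(23, 1, 1)], 0, 0⟩, ⟨2251, 61, 250, 10, [(2, 1, 1), (5, 1, 3)], 1, 0⟩),
    (5, ⟨2460181, 61, 9390, 30, [(2, 1, 1), (3, 1, 1), (5, 1, 1)], 1, 1⟩, ⟨226871, 71, 113435, 5, [(5, 1, 1)], 0, 0⟩),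
    (7, ⟨236377, 37, 29547, 9, [(3, 2, 2)], 0, 2⟩, ⟨599, 53, 598, 26, [(2, 1, 1), (13, 1, 1)], 1, 0⟩),
    (11, ⟨563377, 23, 2134, 22, [(2, 1, 1), (11, 1, 1)], 1, 0⟩, ⟨226871, 43, 22687, 7, [(7, 1, 2)], 0, 0⟩),
    (13, ⟨226871, 29, 226870, 14, [(2, 1, 1), (7, 1, 2)], 1, 0⟩, ⟨104281, 41, 34760, 40, [(2, 3, 3), (5, 1, 1)], 3, 0⟩),
    (17, ⟨104281, 41, 34760, 40, [(2, 3, 3), (5, 1, 1)], 3, 0⟩, ⟨599, 47, 299, 23, [(23, 1, 1)], 0, 0⟩),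
    (31, ⟨563377, 37, 46948, 4, [(2, 2, 2)], 2, 0⟩, ⟨2251, 41, 250, 10, [(2, 1, 1), (5, 1, 3)], 1, 0⟩),
    (127, ⟨226871, 41, 226870, 10, [(2, 1, 1), (5, 1, 1)], 1, 0⟩, ⟨2460181, 61, 1230090, 30, [(2, 1, 1), (3, 1, 1), (5, 1, 1)], 1, 1⟩),
    (151, ⟨226871, 29, 226870, 14, [(2, 1, 1), (7, 1, 2)], 1, 0⟩, ⟨236377, 29, 6566, 14, [(2, 1, 1), (7, 1, 2)], 1, 0⟩),
    (181, ⟨226871, 71, 226870, 14, [(2, 1, 1), (7, 1, 2)], 1, 0⟩, ⟨2251, 79, 375, 3, [(3, 1, 1)], 0, 1⟩),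
    (197, ⟨563377, 23, 11737, 11, [(11, 1, 2)], 0, 0⟩, ⟨599, 53, 598, 26, [(2, 1, 1), (13, 1, 1)], 1, 0⟩),
    (199, ⟨226871, 29, 113435, 7, [(7, 1, 2)], 0, 0⟩, ⟨2460181, 37, 492036, 12, [(2, 2, 2), (3, 1, 1)], 2, 1⟩),
    (701, ⟨2460181, 61, 2460180, 60, [(2, 2, 2), (3, 1, 1), (5, 1, 1)], 2, 1⟩, ⟨226871, 101, 16205, 5, [(5, 1, 1)], 0, 0⟩),
    (769, ⟨599, 47, 299, 23, [(23, 1, 1)], 0, 0⟩, ⟨3044803, 103, 3044802, 102, [(2, 1, 1), (3, 1, 1), (17, 1, 1)], 1, 1⟩),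
    (911, ⟨2460181, 37, 2460180, 12, [(2, 2, 2), (3, 1, 1)], 2, 1⟩, ⟨236377, 37, 39396, 12, [(2, 2, 2), (3, 1, 1)], 2, 1⟩)]
  skip := []
  ch := [
    (15073, 5, [(2, 5), (3, 1), (157, 1)]), (29251, 2, [(2, 1), (3, 2), (5, 3), (13, 1)]),
    (29989, 2, [(2, 2), (3, 2), (7, 2), (17, 1)]), (70841, 3, [(2, 3), (5, 1), (7, 1), (11, 1), (23, 1)]),
    (104281, 26, [(2, 3), (3, 1), (5, 1), (11, 1), (79, 1)]),
    (226871, 13, [(2, 1), (5, 1), (7, 2), (463, 1)]), (236377, 10, [(2, 3), (3, 2), (7, 2), (67, 1)]),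
    (563377, 15, [(2, 4), (3, 1), (11, 2), (97, 1)]),
    (2460181, 2, [(2, 2), (3, 1), (5, 1), (131, 1), (313, 1)]),
    (29851, 2, [(2, 1), (3, 1), (5, 2), (199, 1)]), (3044803, 5, [(2, 1), (3, 1), (17, 1), (29851, 1)]),
    (9403, 3, [(2, 1), (3, 1), (1567, 1)]), (282091, 3, [(2, 1), (3, 1), (5, 1), (9403, 1)]),
    (62060021, 2, [(2, 2), (5, 1), (11, 1), (282091, 1)]),
    (133338869, 2, [(2, 2), (13, 1), (29, 2), (3049, 1)]), (4639, 3, [(2, 1), (3, 1), (773, 1)]),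
    (67733, 2, [(2, 2), (7, 1), (41, 1), (59, 1)]), (8127961, 17, [(2, 3), (3, 1), (5, 1), (67733, 1)]),
    (48767767, 5, [(2, 1), (3, 1), (8127961, 1)]),
    (99995282631947, 2, [(2, 1), (13, 1), (17, 1), (4639, 1), (48767767, 1)])]

set_option maxRecDepth 100000 in
theorem L18_19_ok : ldB L18_19 = true := by decide +kernel

end Cfsg.Agent.H414.Psl
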