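import Cfsg.Agent.H414.PslData

/-!
# Certificate for `PSL(18, 7)` (helper414; generated)
-/

set_option autoImplicit false

namespace Cfsg.Agent.H414.Psl

open Cfsg.Agent.H414.PslData Cfsg.Agent.H414.RelB

def L18_7 : LD where
  n := 18
  q := 7
  p := 7
  a := 1
  fac := [
    (2, 52), (3, 26), (5, 8), (11, 1), (13, 1), (17, 1), (19, 6), (29, 2), (31, 1), (37, 2), (43, 3),
    (113, 1), (181, 1), (191, 1), (911, 1), (1063, 2), (1123, 1), (1201, 2), (2801, 3), (4733, 2),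
    (14009, 1), (117307, 1), (159871, 1), (169553, 1), (293459, 1), (2767631689, 1), (16148168401, 1)]
  tops := [
    (10, 191), (11, 1123), (12, 181), (13, 16148168401), (14, 911), (15, 159871), (16, 169553),
    (17, 2767631689), (18, 117307)]
  A := [
    (1063, 59), (1123, 281), (1201, 601), (2801, 467), (4733, 263), (14009, 103), (117307, 29327),
    (159871, 73), (169553, 367), (293459, 67), (2767631689, 71), (16148168401, 103)]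
  B := [
    (2, ⟨16148168401, 61, 4037042100, 60, [(2, 2, 2), (3, 1, 1), (5, 1, 2)], 2, 1⟩, ⟨1123, 67, 1122, 66, [(2, 1, 1), (3, 1, 1), (11, 1, 1)], 1, 1⟩),
    (3, ⟨16148168401, 61, 672840350, 10, [(2, 1, 1), (5, 1, 2)], 1, 0⟩, ⟨911, 71, 455, 35, [(5, 1, 1), (7, 1, 1)], 0, 0⟩),
    (5, ⟨1123, 23, 374, 22, [(2, 1, 1), (11, 1, 1)], 1, 0⟩, ⟨911, 71, 455, 5, [(5, 1, 1)], 0, 0⟩),
    (11, ⟨1123, 23, 374, 22, [(2, 1, 1), (11, 1, 1)], 1, 0⟩, ⟨911, 53, 26, 26, [(2, 1, 1), (13, 1, 1)], 1, 0⟩),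
    (13, ⟨911, 53, 455, 13, [(13, 1, 1)], 0, 0⟩, ⟨1123, 67, 66, 66, [(2, 1, 1), (3, 1, 1), (11, 1, 1)], 1, 1⟩),
    (17, ⟨16148168401, 41, 538272280, 40, [(2, 3, 3), (5, 1, 1)], 3, 0⟩, ⟨911, 53, 910, 26, [(2, 1, 1), (13, 1, 1)], 1, 0⟩),
    (19, ⟨1123, 67, 561, 33, [(3, 1, 1), (11, 1, 1)], 0, 1⟩, ⟨911, 151, 5, 5, [(5, 1, 1)], 0, 0⟩),
    (29, ⟨911, 53, 910, 26, [(2, 1, 1), (13, 1, 1)], 1, 0⟩, ⟨181, 67, 15, 3, [(3, 1, 1)], 0, 1⟩),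
    (31, ⟨16148168401, 97, 849903600, 48, [(2, 4, 4), (3, 1, 1)], 4, 1⟩, ⟨1123, 103, 374, 34, [(2, 1, 1), (17, 1, 1)], 1, 0⟩),
    (37, ⟨911, 53, 910, 26, [(2, 1, 1), (13, 1, 1)], 1, 0⟩, ⟨16148168401, 173, 51756950, 86, [(2, 1, 1), (43, 1, 1)], 1, 0⟩),
    (43, ⟨911, 71, 455, 35, [(5, 1, 1), (7, 1, 1)], 0, 0⟩, ⟨159871, 139, 159870, 6, [(2, 1, 1), (3, 1, 1)], 1, 1⟩),
    (113, ⟨191, 41, 190, 10, [(2, 1, 1), (5, 1, 1)], 1, 0⟩, ⟨2767631689, 73, 2767631688, 72, [(2, 3, 3), (3, 2, 2)], 3, 2⟩),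
    (181, ⟨16148168401, 41, 538272280, 40, [(2, 3, 3), (5, 1, 1)], 3, 0⟩, ⟨1123, 67, 561, 33, [(3, 1, 1), (11, 1, 1)], 0, 1⟩),
    (191, ⟨911, 79, 910, 26, [(2, 1, 1), (13, 1, 1)], 1, 0⟩, ⟨16148168401, 97, 16148168400, 48, [(2, 4, 4), (3, 1, 1)], 4, 1⟩),
    (911, ⟨169553, 41, 42388, 4, [(2, 2, 2)], 2, 0⟩, ⟨2767631689, 73, 1383815844, 36, [(2, 2, 2), (3, 2, 2)], 2, 2⟩)]
  skip := []
  ch := [
    (4733, 5, [(2, 2), (7, 1), (13, 2)]), (14009, 3, [(2, 3), (17, 1), (103, 1)]),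
    (29327, 5, [(2, 1), (11, 1), (31, 1), (43, 1)]), (117307, 5, [(2, 1), (3, 2), (7, 3), (19, 1)]),
    (159871, 6, [(2, 1), (3, 1), (5, 1), (73, 2)]), (10597, 5, [(2, 2), (3, 1), (883, 1)]),
    (169553, 3, [(2, 4), (10597, 1)]), (13339, 2, [(2, 1), (3, 3), (13, 1), (19, 1)]),
    (293459, 2, [(2, 1), (11, 1), (13339, 1)]), (15923, 2, [(2, 1), (19, 1), (419, 1)]),
    (31847, 5, [(2, 1), (15923, 1)]), (2767631689, 29, [(2, 3), (3, 2), (17, 1), (71, 1), (31847, 1)]),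
    (16148168401, 22, [(2, 4), (3, 1), (5, 2), (7, 1), (13, 1), (19, 1), (43, 1), (181, 1)])]

set_option maxRecDepth 100000 in
theorem L18_7_ok : ldB L18_7 = true := by decide +kernel

end Cfsg.Agent.H414.Psl
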