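import Cfsg.Agent.H414.PslData

/-!
# Certificate for `PSL(20, 11)` (helper414; generated)
-/

set_option autoImplicit false

namespace Cfsg.Agent.H414.Psl

open Cfsg.Agent.H414.PslData Cfsg.Agent.H414.RelB

def L20_11 : LD where
  n := 20
  q := 11
  p := 11
  a := 1
  fac := [
    (2, 48), (3, 14), (5, 24), (7, 6), (13, 1), (17, 1), (19, 6), (37, 3), (43, 2), (61, 5), (1093, 1),
    (1117, 1), (3221, 4), (7321, 2), (13421, 2), (15797, 1), (45319, 2), (590077, 1), (1623931, 1),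
    (1772893, 2), (1806113, 1), (6304673, 1), (195019441, 1), (212601841, 1), (3158528101, 1),
    (50544702849929377, 1), (6115909044841454629, 1)]
  tops := [
    (11, 15797), (12, 1117), (13, 3158528101), (14, 1623931), (15, 195019441), (16, 6304673),
    (17, 50544702849929377), (18, 590077), (19, 6115909044841454629), (20, 212601841)]
  A := [
    (61, 31), (1093, 547), (1117, 31), (3221, 23), (7321, 523), (13421, 2237), (15797, 359), (45319, 83),
    (590077, 443), (1623931, 181), (1772893, 757), (1806113, 733), (6304673, 47), (195019441, 173),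
    (212601841, 29), (3158528101, 127), (50544702849929377, 23), (6115909044841454629, 31)]
  B := [
    (2, ⟨195019441, 29, 3250324, 28, [(2, 2, 2), (7, 1, 1)], 2, 0⟩, ⟨50544702849929377, 97, 25272351424964688, 48, [(2, 4, 4), (3, 1, 1)], 4, 1⟩),
    (3, ⟨195019441, 23, 812581, 11, [(11, 1, 1)], 0, 0⟩, ⟨1623931, 67, 108262, 22, [(2, 1, 1), (11, 1, 1)], 1, 0⟩),
    (5, ⟨6115909044841454629, 23, 113257574904471382, 22, [(2, 1, 1), (11, 1, 1)], 1, 0⟩, ⟨3158528101, 29, 105284270, 14, [(2, 1, 1), (7, 1, 1)], 1, 0⟩),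
    (7, ⟨1623931, 23, 541310, 22, [(2, 1, 1), (11, 1, 1)], 1, 0⟩, ⟨3158528101, 29, 263210675, 7, [(7, 1, 1)], 0, 0⟩),
    (13, ⟨212601841, 41, 35433640, 40, [(2, 3, 3), (5, 1, 1)], 3, 0⟩, ⟨3158528101, 79, 31585281, 39, [(3, 1, 1), (13, 1, 1)], 0, 1⟩),
    (17, ⟨6115909044841454629, 29, 32359307115563252, 4, [(2, 2, 2)], 2, 0⟩, ⟨1623931, 31, 1623930, 30, [(2, 1, 1), (3, 1, 1), (5, 1, 1)], 1, 1⟩),
    (19, ⟨1623931, 23, 541310, 22, [(2, 1, 1), (11, 1, 1)], 1, 0⟩, ⟨212601841, 31, 109815, 15, [(3, 1, 1), (5, 1, 1)], 0, 1⟩),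
    (37, ⟨590077, 31, 98346, 6, [(2, 1, 1), (3, 1, 1)], 1, 1⟩, ⟨1623931, 67, 811965, 3, [(3, 1, 1)], 0, 1⟩),
    (43, ⟨15797, 23, 7898, 22, [(2, 1, 1), (11, 1, 1)], 1, 0⟩, ⟨1623931, 23, 541310, 22, [(2, 1, 1), (11, 1, 1)], 1, 0⟩)]
  skip := []
  ch := [
    (7321, 7, [(2, 3), (3, 1), (5, 1), (61, 1)]), (13421, 10, [(2, 2), (5, 1), (11, 1), (61, 1)]),
    (15797, 2, [(2, 2), (11, 1), (359, 1)]), (45319, 3, [(2, 1), (3, 1), (7, 1), (13, 1), (83, 1)]),
    (590077, 6, [(2, 2), (3, 2), (37, 1), (443, 1)]),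
    (1623931, 17, [(2, 1), (3, 1), (5, 1), (7, 1), (11, 1), (19, 1), (37, 1)]),
    (1772893, 17, [(2, 2), (3, 2), (11, 3), (37, 1)]), (1806113, 3, [(2, 5), (7, 1), (11, 1), (733, 1)]),
    (17911, 3, [(2, 1), (3, 2), (5, 1), (199, 1)]), (6304673, 3, [(2, 5), (11, 1), (17911, 1)]),
    (195019441, 13, [(2, 4), (3, 1), (5, 1), (7, 1), (11, 1), (61, 1), (173, 1)]),
    (212601841, 34, [(2, 4), (3, 1), (5, 1), (11, 2), (7321, 1)]),
    (3158528101, 2, [(2, 2), (3, 1), (5, 2), (7, 1), (13, 1), (127, 1), (911, 1)]),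
    (50544702849929377, 5, [(2, 5), (3, 1), (11, 1), (17, 1), (61, 1), (7321, 1), (6304673, 1)]),
    (6115909044841454629, 14, [(2, 2), (3, 3), (7, 1), (11, 1), (19, 1), (37, 1), (590077, 1), (1772893, 1)])]

set_option maxRecDepth 100000 in
theorem L20_11_ok : ldB L20_11 = true := by decide +kernel

end Cfsg.Agent.H414.Psl
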