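import Cfsg.Agent.H414.PslData

/-!
# Certificate for `PSL(20, 5)` (helper414; generated)
-/

set_option autoImplicit false

namespace Cfsg.Agent.H414.Psl

open Cfsg.Agent.H414.PslData Cfsg.Agent.H414.RelB

def L20_5 : LD where
  n := 20
  q := 5
  p := 5
  a := 1
  fac := [
    (2, 58), (3, 14), (7, 3), (11, 4), (13, 5), (17, 1), (19, 2), (29, 1), (31, 6), (41, 1), (71, 4),
    (181, 1), (191, 1), (313, 2), (409, 1), (449, 1), (521, 2), (601, 1), (829, 2), (1741, 1), (5167, 1),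
    (6271, 1), (9161, 1), (11489, 1), (19531, 2), (3981071, 1), (12207031, 1), (305175781, 1), (466344409, 1)]
  tops := [
    (11, 12207031), (12, 601), (13, 305175781), (14, 449), (15, 1741), (16, 11489), (17, 466344409),
    (18, 5167), (19, 3981071), (20, 9161)]
  A := [
    (313, 157), (601, 43), (829, 23), (1741, 67), (9161, 229), (11489, 359), (19531, 257), (3981071, 23),
    (12207031, 167), (305175781, 3499), (466344409, 36871)]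
  B := [
    (2, ⟨305175781, 37, 61035156, 36, [(2, 2, 2), (3, 2, 2)], 2, 2⟩, ⟨3981071, 47, 398107, 23, [(23, 1, 1)], 0, 0⟩),
    (3, ⟨5167, 37, 738, 18, [(2, 1, 1), (3, 2, 2)], 1, 2⟩, ⟨3981071, 47, 1990535, 23, [(23, 1, 1)], 0, 0⟩),
    (7, ⟨12207031, 43, 12207030, 6, [(2, 1, 1), (3, 1, 1)], 1, 1⟩, ⟨5167, 43, 1722, 6, [(2, 1, 1), (3, 1, 1)], 1, 1⟩),
    (11, ⟨12207031, 37, 12207030, 6, [(2, 1, 1), (3, 1, 1)], 1, 1⟩, ⟨305175781, 37, 7266090, 6, [(2, 1, 1), (3, 1, 1)], 1, 1⟩),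
    (13, ⟨1741, 59, 58, 58, [(2, 1, 1), (29, 1, 1)], 1, 0⟩, ⟨12207031, 67, 12207030, 66, [(2, 1, 1), (3, 1, 1), (11, 1, 1)], 1, 1⟩),
    (17, ⟨601, 73, 120, 24, [(2, 3, 3), (3, 1, 1)], 3, 1⟩, ⟨3981071, 101, 3981070, 10, [(2, 1, 1), (5, 1, 1)], 1, 0⟩),
    (19, ⟨3981071, 47, 3981070, 46, [(2, 1, 1), (23, 1, 1)], 1, 0⟩, ⟨12207031, 61, 12207030, 30, [(2, 1, 1), (3, 1, 1), (5, 1, 1)], 1, 1⟩),
    (29, ⟨466344409, 37, 233172204, 12, [(2, 2, 2), (3, 1, 1)], 2, 1⟩, ⟨5167, 83, 287, 41, [(41, 1, 1)], 0, 0⟩),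
    (31, ⟨466344409, 37, 77724068, 4, [(2, 2, 2)], 2, 0⟩, ⟨9161, 37, 4580, 4, [(2, 2, 2)], 2, 0⟩),
    (41, ⟨3981071, 47, 3981070, 46, [(2, 1, 1), (23, 1, 1)], 1, 0⟩, ⟨12207031, 61, 4069010, 10, [(2, 1, 1), (5, 1, 1)], 1, 0⟩),
    (71, ⟨5167, 37, 369, 9, [(3, 2, 2)], 0, 2⟩, ⟨11489, 113, 5744, 16, [(2, 4, 4)], 4, 0⟩),
    (181, ⟨5167, 37, 2583, 9, [(3, 2, 2)], 0, 2⟩, ⟨3981071, 47, 3981070, 46, [(2, 1, 1), (23, 1, 1)], 1, 0⟩),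
    (191, ⟨9161, 37, 916, 4, [(2, 2, 2)], 2, 0⟩, ⟨3981071, 47, 398107, 23, [(23, 1, 1)], 0, 0⟩),
    (409, ⟨12207031, 23, 2034505, 11, [(11, 1, 1)], 0, 0⟩, ⟨305175781, 37, 305175780, 36, [(2, 2, 2), (3, 2, 2)], 2, 2⟩),
    (449, ⟨305175781, 127, 76293945, 9, [(3, 2, 2)], 0, 2⟩, ⟨5167, 127, 2583, 9, [(3, 2, 2)], 0, 2⟩),
    (521, ⟨5167, 43, 1722, 42, [(2, 1, 1), (3, 1, 1), (7, 1, 1)], 1, 1⟩, ⟨3981071, 47, 1990535, 23, [(23, 1, 1)], 0, 0⟩),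
    (5167, ⟨12207031, 23, 4069010, 22, [(2, 1, 1), (11, 1, 1)], 1, 0⟩, ⟨3981071, 47, 3981070, 46, [(2, 1, 1), (23, 1, 1)], 1, 0⟩),
    (6271, ⟨12207031, 43, 6103515, 3, [(3, 1, 1)], 0, 1⟩, ⟨3981071, 47, 796214, 46, [(2, 1, 1), (23, 1, 1)], 1, 0⟩)]
  skip := []
  ch := [
    (5167, 6, [(2, 1), (3, 2), (7, 1), (41, 1)]), (6271, 11, [(2, 1), (3, 1), (5, 1), (11, 1), (19, 1)]),
    (9161, 3, [(2, 3), (5, 1), (229, 1)]), (11489, 3, [(2, 5), (359, 1)]),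
    (19531, 13, [(2, 1), (3, 2), (5, 1), (7, 1), (31, 1)]), (36871, 15, [(2, 1), (3, 1), (5, 1), (1229, 1)]),
    (3981071, 17, [(2, 1), (5, 1), (19, 1), (23, 1), (911, 1)]),
    (12207031, 6, [(2, 1), (3, 1), (5, 1), (11, 1), (71, 1), (521, 1)]),
    (305175781, 6, [(2, 2), (3, 2), (5, 1), (7, 1), (13, 1), (31, 1), (601, 1)]),
    (466344409, 7, [(2, 3), (3, 1), (17, 1), (31, 1), (36871, 1)])]

set_option maxRecDepth 100000 in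
theorem L20_5_ok : ldB L20_5 = true := by decide +kernel

end Cfsg.Agent.H414.Psl
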