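import Cfsg.Agent.H414.PslData

/-!
# Certificate for `PSL(24, 3)` (helper414; generated)
-/

set_option autoImplicit false

namespace Cfsg.Agent.H414.Psl

open Cfsg.Agent.H414.PslData Cfsg.Agent.H414.RelB

def L24_3 : LD where
  n := 24
  q := 3
  p := 3
  a := 1
  fac := [
    (2, 58), (5, 7), (7, 4), (11, 8), (13, 8), (17, 1), (19, 1), (23, 2), (37, 1), (41, 3), (47, 1), (61, 2),
    (67, 1), (73, 2), (193, 1), (547, 1), (661, 1), (757, 2), (1093, 3), (1181, 1), (1597, 1), (1871, 1),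
    (3851, 2), (4561, 1), (6481, 1), (34511, 1), (363889, 1), (368089, 1), (797161, 1), (1001523179, 1)]
  tops := [
    (13, 797161), (14, 547), (15, 4561), (16, 193), (17, 34511), (18, 37), (19, 363889), (20, 1181),
    (21, 368089), (22, 661), (23, 1001523179), (24, 6481)]
  A := [
    (61, 31), (193, 97), (547, 137), (661, 331), (757, 379), (1181, 59), (3851, 107), (4561, 2281),
    (6481, 463), (34511, 29), (363889, 36389), (368089, 313), (797161, 398581), (1001523179, 29)]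
  B := [
    (2, ⟨368089, 29, 61348, 28, [(2, 2, 2), (7, 1, 2)], 2, 0⟩, ⟨34511, 31, 595, 5, [(5, 1, 1)], 0, 0⟩),
    (5, ⟨547, 43, 546, 42, [(2, 1, 1), (3, 1, 1), (7, 1, 1)], 1, 1⟩, ⟨34511, 59, 3451, 29, [(29, 1, 1)], 0, 0⟩),
    (7, ⟨797161, 31, 99645, 15, [(3, 1, 1), (5, 1, 1)], 0, 1⟩, ⟨547, 43, 546, 6, [(2, 1, 1), (3, 1, 1)], 1, 1⟩),
    (11, ⟨363889, 29, 10108, 28, [(2, 2, 2), (7, 1, 1)], 2, 0⟩, ⟨547, 79, 39, 39, [(3, 1, 1), (13, 1, 1)], 0, 1⟩),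
    (13, ⟨797161, 29, 66430, 14, [(2, 1, 1), (7, 1, 1)], 1, 0⟩, ⟨547, 43, 21, 21, [(3, 1, 1), (7, 1, 1)], 0, 1⟩),
    (17, ⟨661, 31, 330, 30, [(2, 1, 1), (3, 1, 1), (5, 1, 1)], 1, 1⟩, ⟨34511, 59, 2465, 29, [(29, 1, 1)], 0, 0⟩),
    (19, ⟨547, 79, 273, 39, [(3, 1, 1), (13, 1, 1)], 0, 1⟩, ⟨37, 109, 36, 36, [(2, 2, 2), (3, 2, 2)], 2, 2⟩),
    (23, ⟨34511, 29, 17255, 7, [(7, 1, 1)], 0, 0⟩, ⟨1181, 31, 590, 10, [(2, 1, 1), (5, 1, 1)], 1, 0⟩),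
    (37, ⟨797161, 31, 199290, 6, [(2, 1, 1), (3, 1, 1)], 1, 1⟩, ⟨547, 31, 546, 6, [(2, 1, 1), (3, 1, 1)], 1, 1⟩),
    (41, ⟨661, 31, 165, 15, [(3, 1, 1), (5, 1, 1)], 0, 1⟩, ⟨1001523179, 59, 500761589, 29, [(29, 1, 1)], 0, 0⟩),
    (47, ⟨34511, 31, 17255, 5, [(5, 1, 1)], 0, 0⟩, ⟨661, 103, 330, 6, [(2, 1, 1), (3, 1, 1)], 1, 1⟩),
    (67, ⟨34511, 29, 6902, 14, [(2, 1, 1), (7, 1, 1)], 1, 0⟩, ⟨547, 31, 273, 3, [(3, 1, 1)], 0, 1⟩),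
    (73, ⟨4561, 31, 570, 30, [(2, 1, 1), (3, 1, 1), (5, 1, 1)], 1, 1⟩, ⟨1001523179, 59, 1001523178, 58, [(2, 1, 1), (29, 1, 1)], 1, 0⟩),
    (1093, ⟨797161, 43, 199290, 42, [(2, 1, 1), (3, 1, 1), (7, 1, 1)], 1, 1⟩, ⟨34511, 59, 34510, 58, [(2, 1, 1), (29, 1, 1)], 1, 0⟩),
    (1597, ⟨661, 31, 55, 5, [(5, 1, 1)], 0, 0⟩, ⟨547, 53, 182, 26, [(2, 1, 1), (13, 1, 1)], 1, 0⟩),
    (1871, ⟨34511, 43, 6902, 14, [(2, 1, 1), (7, 1, 1)], 1, 0⟩, ⟨547, 79, 546, 78, [(2, 1, 1), (3, 1, 1), (13, 1, 1)], 1, 1⟩)]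
  skip := []
  ch := [
    (4561, 11, [(2, 4), (3, 1), (5, 1), (19, 1)]), (6481, 7, [(2, 4), (3, 4), (5, 1)]),
    (34511, 7, [(2, 1), (5, 1), (7, 1), (17, 1), (29, 1)]), (36389, 3, [(2, 2), (11, 1), (827, 1)]),
    (363889, 13, [(2, 4), (3, 2), (7, 1), (19, 2)]), (368089, 11, [(2, 3), (3, 1), (7, 2), (313, 1)]),
    (398581, 2, [(2, 2), (3, 1), (5, 1), (7, 1), (13, 1), (73, 1)]),
    (797161, 17, [(2, 3), (3, 1), (5, 1), (7, 1), (13, 1), (73, 1)]),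
    (1001523179, 2, [(2, 1), (23, 1), (29, 1), (37, 1), (103, 1), (197, 1)])]

set_option maxRecDepth 100000 in
theorem L24_3_ok : ldB L24_3 = true := by decide +kernel

end Cfsg.Agent.H414.Psl
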