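import Cfsg.Agent.H414.PslData

/-!
# Certificate for `PSL(24, 5)` (helper414; generated)
-/

set_option autoImplicit false

namespace Cfsg.Agent.H414.Psl

open Cfsg.Agent.H414.PslData Cfsg.Agent.H414.RelB

def L24_5 : LD where
  n := 24
  q := 5
  p := 5
  a := 1
  fac := [
    (2, 70), (3, 17), (7, 4), (11, 4), (13, 6), (17, 1), (19, 2), (23, 1), (29, 1), (31, 8), (41, 1),
    (67, 1), (71, 4), (181, 1), (191, 1), (313, 3), (379, 1), (409, 1), (449, 1), (521, 2), (601, 2),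
    (829, 2), (1741, 1), (5167, 1), (5281, 1), (6271, 1), (8971, 1), (9161, 1), (11489, 1), (19531, 3),
    (390001, 1), (519499, 1), (3981071, 1), (12207031, 2), (305175781, 1), (466344409, 1), (332207361361, 1)]
  tops := [
    (13, 305175781), (14, 449), (15, 1741), (16, 11489), (17, 466344409), (18, 5167), (19, 3981071),
    (20, 9161), (21, 519499), (22, 5281), (23, 332207361361), (24, 390001)]
  A := [
    (313, 157), (601, 43), (829, 83), (5281, 139), (8971, 2243), (9161, 229), (11489, 359), (19531, 257),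
    (390001, 109), (519499, 1039), (3981071, 911), (12207031, 167), (305175781, 3499), (466344409, 36871),
    (332207361361, 271)]
  B := [
    (2, ⟨305175781, 37, 61035156, 36, [(2, 2, 2), (3, 2, 2)], 2, 2⟩, ⟨3981071, 47, 398107, 23, [(23, 1, 1)], 0, 0⟩),
    (3, ⟨5167, 37, 738, 18, [(2, 1, 1), (3, 2, 2)], 1, 2⟩, ⟨519499, 37, 519498, 18, [(2, 1, 1), (3, 2, 2)], 1, 2⟩),
    (7, ⟨5167, 43, 1722, 6, [(2, 1, 1), (3, 1, 1)], 1, 1⟩, ⟨3981071, 47, 1990535, 23, [(23, 1, 1)], 0, 0⟩),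
    (11, ⟨305175781, 37, 7266090, 6, [(2, 1, 1), (3, 1, 1)], 1, 1⟩, ⟨390001, 97, 390000, 48, [(2, 4, 4), (3, 1, 1)], 4, 1⟩),
    (13, ⟨390001, 53, 8125, 13, [(13, 1, 1)], 0, 0⟩, ⟨1741, 59, 58, 58, [(2, 1, 1), (29, 1, 1)], 1, 0⟩),
    (17, ⟨390001, 73, 195000, 24, [(2, 3, 3), (3, 1, 1)], 3, 1⟩, ⟨5281, 97, 5280, 96, [(2, 5, 5), (3, 1, 1)], 5, 1⟩),
    (19, ⟨3981071, 47, 3981070, 46, [(2, 1, 1), (23, 1, 1)], 1, 0⟩, ⟨11489, 97, 11488, 32, [(2, 5, 5)], 5, 0⟩),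
    (23, ⟨390001, 37, 97500, 12, [(2, 2, 2), (3, 1, 1)], 2, 1⟩, ⟨305175781, 73, 305175780, 36, [(2, 2, 2), (3, 2, 2)], 2, 2⟩),
    (29, ⟨466344409, 37, 233172204, 12, [(2, 2, 2), (3, 1, 1)], 2, 1⟩, ⟨332207361361, 43, 2768394678, 42, [(2, 1, 1), (3, 1, 1), (7, 1, 1)], 1, 1⟩),
    (31, ⟨466344409, 37, 77724068, 4, [(2, 2, 2)], 2, 0⟩, ⟨9161, 37, 4580, 4, [(2, 2, 2)], 2, 0⟩),
    (41, ⟨519499, 37, 519498, 18, [(2, 1, 1), (3, 2, 2)], 1, 2⟩, ⟨3981071, 47, 3981070, 46, [(2, 1, 1), (23, 1, 1)], 1, 0⟩),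
    (67, ⟨3981071, 47, 3981070, 46, [(2, 1, 1), (23, 1, 1)], 1, 0⟩, ⟨1741, 61, 1740, 60, [(2, 2, 2), (3, 1, 1), (5, 1, 1)], 2, 1⟩),
    (71, ⟨5167, 37, 369, 9, [(3, 2, 2)], 0, 2⟩, ⟨11489, 113, 5744, 16, [(2, 4, 4)], 4, 0⟩),
    (181, ⟨5167, 37, 2583, 9, [(3, 2, 2)], 0, 2⟩, ⟨519499, 37, 259749, 9, [(3, 2, 2)], 0, 2⟩),
    (191, ⟨9161, 37, 916, 4, [(2, 2, 2)], 2, 0⟩, ⟨3981071, 47, 398107, 23, [(23, 1, 1)], 0, 0⟩),
    (379, ⟨5167, 37, 2583, 9, [(3, 2, 2)], 0, 2⟩, ⟨3981071, 47, 1990535, 23, [(23, 1, 1)], 0, 0⟩),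
    (409, ⟨305175781, 37, 305175780, 36, [(2, 2, 2), (3, 2, 2)], 2, 2⟩, ⟨332207361361, 73, 33220736136, 72, [(2, 3, 3), (3, 2, 2)], 3, 2⟩),
    (449, ⟨519499, 43, 173166, 42, [(2, 1, 1), (3, 1, 1), (7, 1, 2)], 1, 1⟩, ⟨305175781, 127, 76293945, 9, [(3, 2, 2)], 0, 2⟩),
    (521, ⟨332207361361, 37, 41525920170, 18, [(2, 1, 1), (3, 2, 2)], 1, 2⟩, ⟨5167, 43, 1722, 42, [(2, 1, 1), (3, 1, 1), (7, 1, 1)], 1, 1⟩),
    (1741, ⟨3981071, 47, 398107, 23, [(23, 1, 1)], 0, 0⟩, ⟨9161, 61, 4580, 20, [(2, 2, 2), (5, 1, 1)], 2, 0⟩),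
    (5167, ⟨519499, 43, 173166, 6, [(2, 1, 1), (3, 1, 1)], 1, 1⟩, ⟨3981071, 47, 3981070, 46, [(2, 1, 1), (23, 1, 1)], 1, 0⟩),
    (6271, ⟨3981071, 47, 796214, 46, [(2, 1, 1), (23, 1, 1)], 1, 0⟩, ⟨390001, 73, 195000, 24, [(2, 3, 3), (3, 1, 1)], 3, 1⟩)]
  skip := []
  ch := [
    (5167, 6, [(2, 1), (3, 2), (7, 1), (41, 1)]), (5281, 7, [(2, 5), (3, 1), (5, 1), (11, 1)]),
    (6271, 11, [(2, 1), (3, 1), (5, 1), (11, 1), (19, 1)]),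
    (8971, 2, [(2, 1), (3, 1), (5, 1), (13, 1), (23, 1)]), (9161, 3, [(2, 3), (5, 1), (229, 1)]),
    (11489, 3, [(2, 5), (359, 1)]), (19531, 13, [(2, 1), (3, 2), (5, 1), (7, 1), (31, 1)]),
    (36871, 15, [(2, 1), (3, 1), (5, 1), (1229, 1)]), (390001, 7, [(2, 4), (3, 1), (5, 4), (13, 1)]),
    (519499, 2, [(2, 1), (3, 2), (7, 2), (19, 1), (31, 1)]),
    (3981071, 17, [(2, 1), (5, 1), (19, 1), (23, 1), (911, 1)]),
    (12207031, 6, [(2, 1), (3, 1), (5, 1), (11, 1), (71, 1), (521, 1)]),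
    (305175781, 6, [(2, 2), (3, 2), (5, 1), (7, 1), (13, 1), (31, 1), (601, 1)]),
    (466344409, 7, [(2, 3), (3, 1), (17, 1), (31, 1), (36871, 1)]),
    (9781, 6, [(2, 2), (3, 1), (5, 1), (163, 1)]),
    (332207361361, 13, [(2, 4), (3, 2), (5, 1), (7, 1), (23, 1), (293, 1), (9781, 1)])]

set_option maxRecDepth 100000 in
theorem L24_5_ok : ldB L24_5 = true := by decide +kernel

end Cfsg.Agent.H414.Psl
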