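import Cfsg.Agent.H414.PslData

/-!
# Certificate for `PSL(8, 5)` (helper414; generated)
-/

set_option autoImplicit false

namespace Cfsg.Agent.H414.Psl

open Cfsg.Agent.H414.PslData Cfsg.Agent.H414.RelB

def L8_5 : LD where
  n := 8
  q := 5
  p := 5
  a := 1
  fac := [
    (2, 23), (3, 5), (7, 1), (11, 1), (13, 2), (31, 2), (71, 1), (313, 1), (19531, 1)]
  tops := [
    (5, 71), (6, 7), (7, 19531), (8, 313)]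
  A := [
    (313, 157), (19531, 19)]
  B := [
    (2, ⟨71, 127, 35, 7, [(7, 1, 1)], 0, 0⟩, ⟨19531, 211, 6510, 210, [(2, 1, 1), (3, 1, 1), (5, 1, 1), (7, 1, 1)], 1, 1⟩),
    (3, ⟨19531, 43, 6510, 42, [(2, 1, 1), (3, 1, 1), (7, 1, 1)], 1, 1⟩, ⟨71, 1093, 35, 7, [(7, 1, 1)], 0, 0⟩),
    (7, ⟨71, 113, 70, 14, [(2, 1, 1), (7, 1, 1)], 1, 0⟩, ⟨19531, 127, 3906, 126, [(2, 1, 1), (3, 2, 2), (7, 1, 1)], 1, 2⟩),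
    (11, ⟨7, 19, 3, 3, [(3, 1, 1)], 0, 1⟩, ⟨313, 37, 78, 6, [(2, 1, 1), (3, 1, 1)], 1, 1⟩),
    (13, ⟨19531, 19, 19530, 18, [(2, 1, 1), (3, 2, 2)], 1, 2⟩, ⟨71, 29, 70, 14, [(2, 1, 1), (7, 1, 1)], 1, 0⟩),
    (31, ⟨7, 19, 6, 6, [(2, 1, 1), (3, 1, 1)], 1, 1⟩, ⟨71, 41, 70, 10, [(2, 1, 1), (5, 1, 1)], 1, 0⟩),
    (71, ⟨19531, 43, 6510, 42, [(2, 1, 1), (3, 1, 1), (7, 1, 1)], 1, 1⟩, ⟨313, 53, 52, 52, [(2, 2, 2), (13, 1, 1)], 2, 0⟩)]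
  skip := []
  ch := [
    (19531, 13, [(2, 1), (3, 2), (5, 1), (7, 1), (31, 1)])]

set_option maxRecDepth 100000 in
theorem L8_5_ok : ldB L8_5 = true := by decide +kernel

end Cfsg.Agent.H414.Psl
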