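import Cfsg.Agent.H414.PslData

/-!
# Certificate for `PSL(8, 9)` (helper414; generated)
-/

set_option autoImplicit false

namespace Cfsg.Agent.H414.Psl

open Cfsg.Agent.H414.PslData Cfsg.Agent.H414.RelB

def L8_9 : LD where
  n := 8
  q := 9
  p := 3
  a := 2
  fac := [
    (2, 31), (5, 4), (7, 2), (11, 2), (13, 2), (17, 1), (41, 2), (61, 1), (73, 1), (193, 1), (547, 1),
    (1093, 1)]
  tops := [
    (5, 61), (6, 73), (7, 547), (8, 193)]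
  A := [
    (61, 31), (73, 37), (193, 97), (547, 137)]
  B := [
    (2, ⟨61, 1321, 60, 60, [(2, 2, 2), (3, 1, 1), (5, 1, 1)], 2, 1⟩, ⟨547, 5419, 546, 42, [(2, 1, 1), (3, 1, 1), (7, 1, 1)], 1, 1⟩),
    (5, ⟨547, 43, 546, 42, [(2, 1, 1), (3, 1, 1), (7, 1, 1)], 1, 1⟩, ⟨61, 7621, 30, 30, [(2, 1, 1), (3, 1, 1), (5, 1, 1)], 1, 1⟩),
    (7, ⟨547, 43, 546, 6, [(2, 1, 1), (3, 1, 1)], 1, 1⟩, ⟨61, 181, 60, 12, [(2, 2, 2), (3, 1, 1)], 2, 1⟩),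
    (11, ⟨547, 19, 39, 3, [(3, 1, 1)], 0, 1⟩, ⟨193, 257, 64, 64, [(2, 6, 6)], 6, 0⟩),
    (13, ⟨547, 43, 21, 21, [(3, 1, 1), (7, 1, 1)], 0, 1⟩, ⟨193, 1601, 64, 64, [(2, 6, 6)], 6, 0⟩),
    (17, ⟨61, 541, 60, 60, [(2, 2, 2), (3, 1, 1), (5, 1, 1)], 2, 1⟩, ⟨547, 1249, 546, 78, [(2, 1, 1), (3, 1, 1), (13, 1, 1)], 1, 1⟩),
    (41, ⟨73, 19, 18, 18, [(2, 1, 1), (3, 2, 2)], 1, 2⟩, ⟨193, 577, 192, 192, [(2, 6, 6), (3, 1, 1)], 6, 1⟩),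
    (1093, ⟨73, 19, 18, 18, [(2, 1, 1), (3, 2, 2)], 1, 2⟩, ⟨193, 97, 96, 96, [(2, 5, 5), (3, 1, 1)], 5, 1⟩)]
  skip := []
  ch := [
    (5419, 3, [(2, 1), (3, 2), (7, 1), (43, 1)]), (7621, 2, [(2, 2), (3, 1), (5, 1), (127, 1)])]

set_option maxRecDepth 100000 in
theorem L8_9_ok : ldB L8_9 = true := by decide +kernel

end Cfsg.Agent.H414.Psl
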